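import Cfsg.Agent.Lib.Recog.SporBound.Sound
import Cfsg.Agent.Lib.Recog.SporBound.HeK.Tree0

set_option autoImplicit false
set_option maxRecDepth 20000

/-! Generated closure certificate: He, <a,c,d,e> over 1 (owner: lead). -/

namespace CfsgLib.Recog.SporBound.HeK
open CfsgLib.Recog.SporBound

noncomputable def factTree : Q (ℕ) := (.node ft0 ft1 (.leaf 0) (.leaf 0))
noncomputable def nodeTree : Q (ℕ) := ct0
noncomputable def stepTree : Q (List ℕ) := (.node st0 st1 (.leaf []) (.leaf []))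
noncomputable def finalTree : Q (List ℕ) := et8

/-- The certificate. -/
noncomputable def cert : Cert where
  n := 120
  nd := 119
  nf := 240
  kl := [0, 2, 3, 4]
  facts := factTree
  cn := nodeTree
  steps := stepTree
  finals := finalTree
  rels := [[0, 0], [2, 2], [3, 3], [4, 4], [0, 2, 0, 2], [0, 3, 0, 3], [0, 4, 0, 4], [2, 3, 2, 3, 2, 3, 2, 3, 2, 3, 2, 3, 2, 3, 2, 3, 2, 3, 2, 3], [2, 4, 2, 4], [3, 4, 3, 4, 3, 4], [0, 3, 2, 3, 2, 3, 2, 3, 2, 3, 2], [2, 3, 2, 3, 4, 3, 2, 3, 2, 3, 4, 3, 2, 3, 4]]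
  subs := []

/-- Chains of the traced words. -/
noncomputable def closers : List ℕ := []

end CfsgLib.Recog.SporBound.HeK
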