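import Cfsg.Agent.Lib.Recog.SporBound.HeK.Data

set_option autoImplicit false
set_option maxRecDepth 20000

/-! Checks of the certificate, part 0. -/

namespace CfsgLib.Recog.SporBound.HeK
open CfsgLib.Recog.SporBound
open CfsgLib.ThreeTrans.CosetIndex (forallFrom)

theorem defs0 : forallFrom cert.defOK 0 119 = true := by decide +kernel

theorem steps0 : cert.stepsPart 0 2 = true := by decide +kernel

theorem finals0 : cert.finalsPart 0 8 = true := by decide +kernel

end CfsgLib.Recog.SporBound.HeK
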